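import Mathlib
import Cfsg.Agent.Lib.Helper95.BG.S1428Defs
import Cfsg.Agent.Lib.Helper24.BG.S1431Util
import Cfsg.Agent.Lib.Helper46.BG.S1414Core
import Cfsg.Agent.Lib.Helper13.BG.S1427D
import Cfsg.Agent.Lib.Helper90.SylowCount

/-!
# S1428, package KS: `LemK0 → LemK`, `LemK → LemSyl`, `LemK → LemDer`
-/

set_option autoImplicit false
set_option linter.style.haveILetI false

namespace Cfsg.Agent.Lib.Helper95.BG28

open Cfsg Cfsg.Agent.Lib.Helper46 Cfsg.Agent.Lib.Helper35.BG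
open scoped commutatorElement

universe u

/-- `M_β ≤ M`. -/
theorem betaCore_le {G : Type u} [Group G] (M : Subgroup G) :
    Cfsg.piCoreOf (Cfsg.beta M) M ≤ M := Subgroup.map_subtype_le _

/-- `M` normalizes `M_β`. -/
theorem le_normalizer_betaCore {G : Type u} [Group G] (M : Subgroup G) :
    M ≤ Subgroup.normalizer ((Cfsg.piCoreOf (Cfsg.beta M) M : Subgroup G) : Set G) := by
  unfold Cfsg.piCoreOf
  exact Cfsg.Agent.Lib.Helper13.BG.le_normalizer_map_subtype _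

/-- A prime outside `β(M)` does not divide `|M_β|`. -/
theorem not_dvd_card_betaCore {G : Type u} [Group G] [Finite G] (M : Subgroup G) {u : ℕ}
    (hu : u.Prime) (huβ : u ∉ Cfsg.beta M) : ¬ u ∣ Nat.card ↥(Cfsg.piCoreOf (Cfsg.beta M) M) :=
  fun h => huβ (Cfsg.Agent.Lib.Helper23.piCoreOf_isPi (Cfsg.beta M) M u hu h)

theorem lemK (hK0 : LemK0.{u}) : LemK.{u} := by
  intro G _ _ hG hy M hM t ht htβ S hS hNS
  haveI : Fact t.Prime := ⟨ht⟩
  obtain ⟨P, hP⟩ := Cfsg.Agent.Lib.Helper24.BG31.exists_sylow_of_sylIn_top hS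
  obtain ⟨V, hV⟩ := Cfsg.Agent.Lib.Helper46.BG.exists_isComplIn_normalizer P
  have h1 := (hy.h1411 t P V hV).2
  rw [hP] at h1
  have h2 : S ≤ ⁅M, M⁆ := h1.trans (Subgroup.commutator_mono hNS hNS)
  have hY : IsSylowIn t S ⁅M, M⁆ := hS.of_le h2 le_top
  have h3 := hK0 hG hy M hM t ht htβ S hY
  rwa [inf_eq_right.mpr hNS] at h3

/-- If `L = L_β ⊔ N` and `u ∉ β(L)`, then `u ∤ |L : N|`. -/
theorem not_dvd_relIndex_of_eq_sup {G : Type u} [Group G] [Finite G] {L N : Subgroup G}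
    (hNL : N ≤ L) (hL : L = Cfsg.piCoreOf (Cfsg.beta L) L ⊔ N) {u : ℕ} (hu : u.Prime)
    (huβ : u ∉ Cfsg.beta L) : ¬ u ∣ N.relIndex L := by
  intro hdvd
  have hnorm : N ≤ Subgroup.normalizer ((Cfsg.piCoreOf (Cfsg.beta L) L : Subgroup G) : Set G) :=
    hNL.trans (le_normalizer_betaCore L)
  have h1 := Cfsg.Agent.Lib.Helper90.card_sup_mul_card_inf_of_le_normalizer hnorm
  rw [sup_comm, ← hL] at h1
  have h2 := card_mul_relIndex' hNL
  -- |L| * |N ⊓ L_β| = |N| * |L_β|, |N| * [L:N] = |L|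
  have h3 : N.relIndex L ∣ Nat.card ↥(Cfsg.piCoreOf (Cfsg.beta L) L) := by
    have hN0 : 0 < Nat.card N := Nat.card_pos
    have h4 : Nat.card N * (N.relIndex L * Nat.card ↥(N ⊓ Cfsg.piCoreOf (Cfsg.beta L) L)) =
        Nat.card N * Nat.card ↥(Cfsg.piCoreOf (Cfsg.beta L) L) := by
      rw [← mul_assoc, h2, h1]
    exact Dvd.intro _ (Nat.eq_of_mul_eq_mul_left hN0 h4)
  exact not_dvd_card_betaCore L hu huβ (hdvd.trans h3)

theorem lemSyl (hK : LemK.{u}) : LemSyl.{u} := by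
  intro G _ _ hG hy M L hM hL t ht htM htL S hS hSM hSL u hu huM huL
  haveI : Fact u.Prime := ⟨hu⟩
  have eM := hK hG hy M hM t ht htM S hS hSM
  have eL := hK hG hy L hL t ht htL S hS hSL
  obtain ⟨U, hU⟩ := Cfsg.Agent.Lib.Helper13.BG.exists_sylIn u
    (Subgroup.normalizer (S : Set G))
  have hUp : IsPGroup u U := sylIn_isPGroup hU
  have key : ∀ X : Subgroup G, Subgroup.normalizer (S : Set G) ≤ X →
      X = Cfsg.piCoreOf (Cfsg.beta X) X ⊔ Subgroup.normalizer (S : Set G) → u ∉ Cfsg.beta X →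
      IsSylowIn u U X := by
    intro X hNX hX huX
    have h1 : ¬ u ∣ (Subgroup.normalizer (S : Set G)).relIndex X :=
      not_dvd_relIndex_of_eq_sup hNX hX hu huX
    have h2 : ¬ u ∣ U.relIndex (Subgroup.normalizer (S : Set G)) :=
      Cfsg.Agent.Lib.Helper24.BG31.sylIn_not_dvd_relIndex hU
    have h3 : U.relIndex X = U.relIndex (Subgroup.normalizer (S : Set G)) *
        (Subgroup.normalizer (S : Set G)).relIndex X :=
      (Subgroup.relIndex_mul_relIndex U _ X hU.1 hNX).symm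
    refine Cfsg.Agent.Lib.Helper13.BG.isSylowIn_of_not_dvd_relIndex hUp (hU.1.trans hNX) ?_
    rw [h3]
    intro h
    rcases (Nat.Prime.dvd_mul hu).mp h with h | h
    · exact h2 h
    · exact h1 h
  exact ⟨U, key M hSM eM huM, key L hSL eL huL⟩

/-- `[B ⊔ N, B ⊔ N] ≤ B ⊔ [N, N]` when `B ⊔ N` normalizes `B`. -/
theorem commutator_sup_le {G : Type u} [Group G] {B N : Subgroup G}
    (hB : B ⊔ N ≤ Subgroup.normalizer (B : Set G)) : ⁅B ⊔ N, B ⊔ N⁆ ≤ B ⊔ ⁅N, N⁆ := by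
  have hNB : N ≤ Subgroup.normalizer (B : Set G) := le_sup_right.trans hB
  have hmem : ∀ x ∈ B ⊔ N, ∃ b ∈ B, ∃ n ∈ N, x = b * n := by
    intro x hx
    have : (x : G) ∈ ((B ⊔ N : Subgroup G) : Set G) := hx
    rw [Subgroup.coe_mul_of_right_le_normalizer_left B N hNB] at this
    obtain ⟨b, hb, n, hn, rfl⟩ := Set.mem_mul.mp this
    exact ⟨b, hb, n, hn, rfl⟩
  rw [Subgroup.commutator_le]
  intro x hx y hy
  obtain ⟨b, hb, n, hn, rfl⟩ := hmem x hx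
  obtain ⟨c, hc, m, hm, rfl⟩ := hmem y hy
  -- ⁅b n, c m⁆ = (element of B) * ⁅n, m⁆
  have hnm : ⁅n, m⁆ ∈ ⁅N, N⁆ := Subgroup.commutator_mem_commutator hn hm
  have hconj : ∀ g ∈ B ⊔ N, ∀ z ∈ B, g * z * g⁻¹ ∈ B := fun g hg z hz =>
    (Subgroup.mem_normalizer_iff.mp (hB hg) z).mp hz
  have hnN : n ∈ B ⊔ N := Subgroup.mem_sup_right hn
  have hmN : m ∈ B ⊔ N := Subgroup.mem_sup_right hm
  have hbN : b ∈ B ⊔ N := Subgroup.mem_sup_left hb
  have hcN : c ∈ B ⊔ N := Subgroup.mem_sup_left hc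
  have e : ⁅b * n, c * m⁆ =
      (b * (n * c * n⁻¹) * ((n * m * n⁻¹) * b⁻¹ * (n * m * n⁻¹)⁻¹) *
        ((n * m * n⁻¹ * m⁻¹) * c⁻¹ * (n * m * n⁻¹ * m⁻¹)⁻¹)) * ⁅n, m⁆ := by
    simp only [commutatorElement_def]
    group
  rw [e]
  refine Subgroup.mul_mem _ (Subgroup.mem_sup_left ?_) (Subgroup.mem_sup_right hnm)
  have h1 : n * c * n⁻¹ ∈ B := hconj n hnN c hc
  have hnmn : n * m * n⁻¹ ∈ B ⊔ N := Subgroup.mul_mem _ (Subgroup.mul_mem _ hnN hmN)
    (Subgroup.inv_mem _ hnN)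
  have h2 : (n * m * n⁻¹) * b⁻¹ * (n * m * n⁻¹)⁻¹ ∈ B :=
    hconj _ hnmn _ (Subgroup.inv_mem _ hb)
  have hnmnm : n * m * n⁻¹ * m⁻¹ ∈ B ⊔ N := Subgroup.mul_mem _ hnmn (Subgroup.inv_mem _ hmN)
  have h3 : (n * m * n⁻¹ * m⁻¹) * c⁻¹ * (n * m * n⁻¹ * m⁻¹)⁻¹ ∈ B :=
    hconj _ hnmnm _ (Subgroup.inv_mem _ hc)
  exact Subgroup.mul_mem _ (Subgroup.mul_mem _ (Subgroup.mul_mem _ hb h1) h2) h3

theorem lemDer (hK : LemK.{u}) : LemDer.{u} := by
  intro G _ _ hG hy L hL t ht htL S hS hSL u hu huL hdvd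
  have eL := hK hG hy L hL t ht htL S hS hSL
  have hBn : Cfsg.piCoreOf (Cfsg.beta L) L ⊔ Subgroup.normalizer (S : Set G) ≤
      Subgroup.normalizer ((Cfsg.piCoreOf (Cfsg.beta L) L : Subgroup G) : Set G) := by
    rw [← eL]; exact le_normalizer_betaCore L
  have h1 : ⁅L, L⁆ ≤ Cfsg.piCoreOf (Cfsg.beta L) L ⊔
      ⁅Subgroup.normalizer (S : Set G), Subgroup.normalizer (S : Set G)⁆ := by
    have := commutator_sup_le hBn
    rwa [← eL] at this
  have h2 : u ∣ Nat.card ↥(Cfsg.piCoreOf (Cfsg.beta L) L ⊔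
      ⁅Subgroup.normalizer (S : Set G), Subgroup.normalizer (S : Set G)⁆) :=
    hdvd.trans (Subgroup.card_dvd_of_le h1)
  have hnorm : ⁅Subgroup.normalizer (S : Set G), Subgroup.normalizer (S : Set G)⁆ ≤
      Subgroup.normalizer ((Cfsg.piCoreOf (Cfsg.beta L) L : Subgroup G) : Set G) :=
    ((Cfsg.Agent.Lib.Helper13.BG.commutator_le_self13 _).trans hSL).trans (le_normalizer_betaCore L)
  have h3 := Cfsg.Agent.Lib.Helper90.card_sup_mul_card_inf_of_le_normalizer hnorm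
  rw [sup_comm] at h3
  have h4 : u ∣ Nat.card ↥⁅Subgroup.normalizer (S : Set G), Subgroup.normalizer (S : Set G)⁆ *
      Nat.card ↥(Cfsg.piCoreOf (Cfsg.beta L) L) := by
    rw [← h3]; exact Dvd.dvd.mul_right h2 _
  rcases (Nat.Prime.dvd_mul hu).mp h4 with h | h
  · exact h
  · exact absurd h (not_dvd_card_betaCore L hu huL)

end Cfsg.Agent.Lib.Helper95.BG28
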