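import Mathlib
import Cfsg.Agent.Lib.Helper95.BG.S1428Defs
import Cfsg.Agent.Lib.Helper13.BG.S1427Core

/-!
# S1428 (BG 13.4), package MA (set-up)

A counterexample `Cx M E P R p r` yields a maximal subgroup `H ⊇ N(P)`, not conjugate to `M`,
with `p ∈ σ(H)`, `p` ideal and `r ∈ τ₁(H)`.
-/

set_option autoImplicit false
set_option linter.style.haveILetI false

namespace Cfsg.Agent.Lib.Helper95.BG28

open Cfsg Cfsg.Agent.Lib.Helper46 Cfsg.Agent.Lib.Helper35.BG Cfsg.Agent.Lib.Helper13.BG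

universe u

theorem lemMA : LemMA.{u} := by
  intro hX hB1 hB2 hT hSyl hK0 hDer G _ _ hG hy M E P R p r cx
  classical
  have hpp : p.Prime := cx.hp.1
  haveI : Fact p.Prime := ⟨hpp⟩
  have hM := cx.hM
  have hpM : p ∉ sigma M := cx.hp.2.1
  have hP1 : P ≠ ⊥ := by
    intro h
    have h2 := cx.hP
    rw [h, Subgroup.card_bot] at h2
    exact hpp.one_lt.ne' h2.symm
  have hPM : P ≤ M := cx.hPE.trans cx.hE.1
  have hRM : R ≤ M := cx.hRE.trans cx.hE.1
  have hPtop : P ≠ ⊤ := fun h => hM.1 (top_le_iff.mp (h ▸ hPM))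
  obtain ⟨H, hH, hNPH⟩ := exists_coatom_ge (normalizer_ne_top hG hP1 hPtop)
  have hPp : IsPGroup p P := IsPGroup.of_card (n := 1) (by rw [cx.hP, pow_one])
  obtain ⟨S₀, hS₀, hPS₀⟩ := exists_isSylowIn_ge hPp hPM
  have hp2 : p ≠ 2 := prime_ne_two13 hG (X := P) (by rw [cx.hP])
  have hS₀r : PRankLE p 1 S₀ :=
    (Cfsg.Agent.Lib.Helper24.pRankLE_subgroup_iff p 1 S₀).mpr (fun A hAS hc he =>
      (Cfsg.Agent.Lib.Helper24.pRankLE_subgroup_iff p 1 M).mp cx.hp.2.2.2.2 A (hAS.trans hS₀.1)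
        hc he)
  have hcyc : IsCyclic S₀ := isCyclic_of_pRankLE_one hp2 (sylIn_isPGroup hS₀) hS₀r
  have hNS : Subgroup.normalizer (S₀ : Set G) ≤ H :=
    (Cfsg.Agent.Lib.Helper77.normalizer_le_normalizer_of_isCyclic hcyc hPS₀).trans hNPH
  have hS₀H : S₀ ≤ H := Subgroup.le_normalizer.trans hNS
  have hS₀1 : S₀ ≠ ⊥ := fun h => hP1 (le_bot_iff.mp (h ▸ hPS₀))
  -- `H` is not conjugate to `M`
  have hnc : ∀ g : G, H ≠ M.map (MulAut.conj g).toMonoidHom := by
    intro g hg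
    apply hpM
    have hS₁ : IsSylowIn p (S₀.map (MulAut.conj g⁻¹).toMonoidHom) M := by
      refine ⟨?_, by rw [card_map_conj]; exact hS₀.2⟩
      have := Subgroup.map_mono (f := (MulAut.conj g⁻¹).toMonoidHom) hS₀H
      rwa [hg, map_conj_mul, inv_mul_cancel, map_conj_one] at this
    have hS₁1 : S₀.map (MulAut.conj g⁻¹).toMonoidHom ≠ ⊥ := by
      intro h
      apply hS₀1
      have h2 := card_map_conj S₀ g⁻¹
      rw [h, Subgroup.card_bot] at h2
      exact Subgroup.card_eq_one.mp h2.symm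
    refine mem_sigma_of_sylIn hS₁ hS₁1 ?_
    rw [normalizer_map_conj]
    have := Subgroup.map_mono (f := (MulAut.conj g⁻¹).toMonoidHom) hNS
    rwa [hg, map_conj_mul, inv_mul_cancel, map_conj_one] at this
  -- `p ∈ σ(H)`
  have hpH : p ∈ sigma H := by
    by_contra hpH
    have hτ : p ∈ tau2 H := by
      refine ⟨hpp, hpH, ?_, ?_⟩
      · by_contra h
        exact hpH (Cfsg.Agent.Lib.Helper46.BG.mem_sigma_of_mem_alpha hG hy.h1405 hH ⟨hpp, h⟩)
      · intro hr1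
        obtain ⟨R', hR', hS₀R'⟩ := exists_isSylowIn_ge (sylIn_isPGroup hS₀) hS₀H
        have hRr : PRankLE p 1 R' :=
          (Cfsg.Agent.Lib.Helper24.pRankLE_subgroup_iff p 1 R').mpr (fun A hAR hc he =>
            (Cfsg.Agent.Lib.Helper24.pRankLE_subgroup_iff p 1 H).mp hr1 A (hAR.trans hR'.1) hc he)
        have hRc : IsCyclic R' := isCyclic_of_pRankLE_one hp2 (sylIn_isPGroup hR') hRr
        have h1 := (Cfsg.Agent.Lib.Helper77.normalizer_le_normalizer_of_isCyclic hRc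
          (hPS₀.trans hS₀R')).trans hNPH
        have hR1 : R' ≠ ⊥ := fun h => hS₀1 (le_bot_iff.mp (h ▸ hS₀R'))
        exact hpH (mem_sigma_of_sylIn hR' hR1 h1)
    exact hB1 hT hSyl hG hy M E P R p r cx H hH hNPH hnc hτ
  -- the centralizers lie in `H`
  have hCPH : Subgroup.centralizer (P : Set G) ≤ H :=
    (centralizer_le_normalizer' P).trans hNPH
  have hRH : R ≤ H := cx.hRP.trans hCPH
  -- a non-commuting pair
  obtain ⟨k, hk, hkR⟩ := SetLike.not_le_iff_exists.mp cx.hne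
  have hkσ : k ∈ sigmaCore M := hk.1
  have hkH : k ∈ H := hCPH hk.2
  have hex : ∃ ρ ∈ R, ρ * k ≠ k * ρ := by
    by_contra hcon
    push Not at hcon
    exact hkR (Subgroup.mem_centralizer_iff.mpr hcon)
  obtain ⟨ρ, hρR, hρk⟩ := hex
  -- `r ∉ σ(M)`
  have hrM : r ∉ sigma M := by
    intro hr
    have hHall := (Cfsg.Agent.Lib.Helper66.BG.s1350_core hG hy.h1404 hy.h1405 M hM).1
    have h1 := hHall.2.2 r cx.hr hr
    rw [relIndex_right_of_isComplIn cx.hE] at h1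
    apply h1
    have h2 : Nat.card R ∣ Nat.card E := Subgroup.card_dvd_of_le cx.hRE
    rwa [cx.hR] at h2
  -- `r ∈ τ₁(H)`
  have hrH : r ∈ tau1 H := by
    by_contra hrH
    apply hρk
    have hρr : ρ ^ r = 1 := by
      have h1 : (⟨ρ, hρR⟩ : ↥R) ^ Nat.card R = 1 := pow_card_eq_one'
      have h2 := congrArg Subtype.val h1
      rw [cx.hR] at h2
      simpa using h2
    exact (hX hG hy M H hM hH hnc r cx.hr hrM hrH k ρ hkσ hkH (hRM hρR) (hRH hρR) hρr).symm
  -- `p` is ideal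
  have hid : IsIdealPrime p G := by
    obtain ⟨y, hydef⟩ : ∃ y : G, y = k * ρ * k⁻¹ * ρ⁻¹ := ⟨_, rfl⟩
    have hy1 : y ≠ 1 := by
      intro h
      apply hρk
      have : k * ρ = (k * ρ * k⁻¹ * ρ⁻¹) * (ρ * k) := by group
      rw [this, ← hydef, h, one_mul]
    have hyσ : y ∈ sigmaCore M := by rw [hydef]; exact comm_mem_sigmaCore hkσ (hRM hρR)
    have hyH' : y ∈ ⁅H, H⁆ := by
      rw [hydef]
      exact Subgroup.commutator_mem_commutator hkH (hRH hρR)
    have hoy : orderOf y ≠ 1 := fun h => hy1 (orderOf_eq_one_iff.mp h)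
    obtain ⟨t, htp, htdvd⟩ := Nat.exists_prime_and_dvd hoy
    have htM : t ∈ sigma M := mem_sigma_of_dvd_orderOf htp hyσ htdvd
    have htH : t ∣ Nat.card ↥⁅H, H⁆ := htdvd.trans (Subgroup.orderOf_dvd_natCard _ hyH')
    exact hB2 hT hK0 hDer hG hy M H hM hH hnc p cx.hp hpH t htM htH
  exact ⟨H, hH, hNPH, hnc, hpH, hid, hrH⟩

end Cfsg.Agent.Lib.Helper95.BG28
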