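import Mathlib
import Cfsg.Agent.Lib.Helper95.BG.S1428Asm
import Cfsg.Agent.Lib.Helper95.BG.S1428KS
import Cfsg.Agent.Lib.Helper95.BG.S1428MA
import Cfsg.Agent.Lib.Helper68.BG.S1428F
import Cfsg.Agent.Lib.Helper68.BG.S1428MB
import Cfsg.Agent.Lib.Helper75.BG.S1428T
import Cfsg.Agent.Lib.Helper75.BG.S1428MC
import Cfsg.Agent.Lib.Helper13.BG.S1428X
import Cfsg.Agent.Lib.Helper13.BG.S1428B1
import Cfsg.Agent.Lib.Helper52.BG.S1428B2
import Cfsg.Agent.Lib.Helper46.BG.S1428K0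

/-!
# S1428 (Bender–Glauberman Theorem 13.4): the core

`s1428_core` is statement S1428 with the earlier statements S1403, S1404, S1405, S1407, S1408,
S1409, S1411, S1414, S1416, S1417, S1418, S1420, S1422, S1423, S1424 as hypotheses (types only).
Team project: packages F, MB (helper68), T, MC (helper75), X, B1 (helper13), B2 (helper52),
K0 (helper46), K, Syl, Der, MA and the assembly (helper95).
-/

set_option autoImplicit false

namespace Cfsg.Agent.Lib.Helper95.BG28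

open Cfsg

universe u

/-- All packages assembled. -/
theorem lemPi_all : LemPi.{u} :=
  lemPi_of Cfsg.Agent.Lib.Helper68.BG.lemF0 Cfsg.Agent.Lib.Helper68.BG.lemF
    Cfsg.Agent.Lib.Helper46.BG.lemK0 (lemK Cfsg.Agent.Lib.Helper46.BG.lemK0)
    (lemSyl (lemK Cfsg.Agent.Lib.Helper46.BG.lemK0))
    (lemDer (lemK Cfsg.Agent.Lib.Helper46.BG.lemK0))
    Cfsg.Agent.Lib.Helper75.BG.lemT_pkg Cfsg.Agent.Lib.Helper13.BG.lemX_pkg
    Cfsg.Agent.Lib.Helper13.BG.lemB1 Cfsg.Agent.Lib.Helper52.BG.lemB2 lemMA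
    Cfsg.Agent.Lib.Helper68.BG.lemMB Cfsg.Agent.Lib.Helper75.BG.lemMC

/-- Statement S1428 (BG Theorem 13.4) from the earlier statements of the chain. -/
theorem s1428_core {G : Type u} [Group G] [Finite G] (hG : Cfsg.IsMinSimpleOddOrder G)
    (h1403 : type_of% (@Cfsg.CfsgFrozen.S1403 G _ _ hG))
    (h1404 : type_of% (@Cfsg.CfsgFrozen.S1404 G _ _ hG))
    (h1405 : type_of% (@Cfsg.CfsgFrozen.S1405 G _ _ hG))
    (h1407 : type_of% (@Cfsg.CfsgFrozen.S1407 G _ _ hG))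
    (h1408 : type_of% (@Cfsg.CfsgFrozen.S1408 G _ _ hG))
    (h1409 : type_of% (@Cfsg.CfsgFrozen.S1409 G _ _ hG))
    (h1411 : type_of% (@Cfsg.CfsgFrozen.S1411 G _ _ hG))
    (h1414 : type_of% (@Cfsg.CfsgFrozen.S1414 G _ _ hG))
    (h1416 : type_of% (@Cfsg.CfsgFrozen.S1416 G _ _ hG))
    (h1417 : type_of% (@Cfsg.CfsgFrozen.S1417 G _ _ hG))
    (h1418 : type_of% (@Cfsg.CfsgFrozen.S1418 G _ _ hG))
    (h1420 : type_of% (@Cfsg.CfsgFrozen.S1420 G _ _ hG))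
    (h1422 : type_of% (@Cfsg.CfsgFrozen.S1422 G _ _ hG))
    (h1423 : type_of% (@Cfsg.CfsgFrozen.S1423 G _ _ hG))
    (h1424 : type_of% (@Cfsg.CfsgFrozen.S1424 G _ _ hG))
    (M : Subgroup G) (hM : IsCoatom M) (E : Subgroup G)
    (hE : Cfsg.IsComplIn E (Cfsg.sigmaCore M) M) (p : ℕ) (hp : p ∈ Cfsg.tau1 M)
    (P : Subgroup G) (hPE : P ≤ E) (hP : Nat.card P = p)
    (R : Subgroup G) (hRE : R ≤ E ⊓ Subgroup.centralizer (P : Set G)) (hR : (Nat.card R).Prime) :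
    Cfsg.sigmaCore M ⊓ Subgroup.centralizer (P : Set G) ≤
      Cfsg.sigmaCore M ⊓ Subgroup.centralizer (R : Set G) :=
  s1428_of_lemPi lemPi_all hG
    ⟨h1403, h1404, h1405, h1407, h1408, h1409, h1411, h1414, h1416, h1417, h1418, h1420, h1422,
      h1423, h1424⟩ M hM E hE p hp P hPE hP R hRE hR

end Cfsg.Agent.Lib.Helper95.BG28
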